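import Mathlib
import Cfsg.Agent.Lib.CharTwo.Basic
import Cfsg.Agent.Lib.LocalChar.Core
import Cfsg.Agent.Lib.Transfer.Criteria

/-!
The subnormalizer of a `p`-subgroup `H`: the elements `g` with `H` subnormal in `⟨H, g⟩` are the
elements normalizing some `p`-subgroup containing `H`.
-/

set_option autoImplicit false

namespace Cfsg.Agent.Lib.Subnormalizer

open Subgroup

variable {G : Type*} [Group G] {p : ℕ}

/-- The elements normalizing some `p`-subgroup containing `H`. -/
def normP (p : ℕ) (H : Subgroup G) : Set G :=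
  {g | ∃ R : Subgroup G, IsPGroup p R ∧ H ≤ R ∧ g ∈ normalizer (R : Set G)}

theorem mem_normP {H : Subgroup G} {g : G} :
    g ∈ normP p H ↔ ∃ R : Subgroup G, IsPGroup p R ∧ H ≤ R ∧ g ∈ normalizer (R : Set G) := Iff.rfl

theorem isSubnormal_iff_mem_normP [Finite G] [Fact p.Prime] {H : Subgroup G} (hH : IsPGroup p H)
    (g : G) : (H.subgroupOf (H ⊔ zpowers g)).IsSubnormal ↔ g ∈ normP p H := by
  set K := H ⊔ zpowers g with hK
  constructor
  · intro h
    have hle := Cfsg.Agent.Lib.CharTwo.subnormal_le_pCore h hH.comap_subtype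
    refine ⟨(Cfsg.pCore p K).map K.subtype, PSolvable.pCore_isPGroup.map _, fun x hx => ?_, ?_⟩
    · exact ⟨⟨x, Subgroup.mem_sup_left hx⟩, hle hx, rfl⟩
    · haveI := PSolvable.pCore_characteristic (G := ↥K) (p := p)
      exact Cfsg.Agent.Lib.LocalChar.le_normalizer_map_subtype (le_normalizer (show g ∈ K from Subgroup.mem_sup_right (mem_zpowers g)))
  · rintro ⟨R, hR, hHR, hg⟩
    have hKN : K ≤ normalizer (R : Set G) :=
      sup_le (hHR.trans le_normalizer) (zpowers_le.mpr hg)
    haveI : (R.subgroupOf K).Normal := normal_subgroupOf_of_le_normalizer hKN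
    have hQ : IsPGroup p (R.subgroupOf K) := hR.comap_subtype
    haveI := hQ.isNilpotent
    refine Subgroup.IsSubnormal.trans (K := R.subgroupOf K) (fun x hx => hHR hx) ?_
      (Subgroup.Normal.isSubnormal inferInstance)
    exact Cfsg.Agent.Lib.LocalChar.isSubnormal_of_isNilpotent _

/-- `O_p` of the normalizer, inside the ambient group. -/
theorem map_pCore_normalizer_le [Finite G] (R : Subgroup G) :
    normalizer (R : Set G) ≤
      normalizer (((Cfsg.pCore p (normalizer (R : Set G))).map (normalizer (R : Set G)).subtype : Subgroup G) : Set G) := by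
  haveI := PSolvable.pCore_characteristic (G := ↥(normalizer (R : Set G))) (p := p)
  exact le_normalizer.trans Cfsg.Agent.Lib.LocalChar.le_normalizer_map_subtype

theorem le_map_pCore_normalizer [Finite G] {R : Subgroup G} (hR : IsPGroup p R) :
    R ≤ (Cfsg.pCore p (normalizer (R : Set G))).map (normalizer (R : Set G)).subtype := by
  intro x hx
  haveI : (R.subgroupOf (normalizer (R : Set G))).Normal := normal_in_normalizer
  exact ⟨⟨x, le_normalizer hx⟩, PSolvable.le_pCore (N := R.subgroupOf (normalizer (R : Set G))) hR.comap_subtype hx, rfl⟩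

theorem mem_normP_iff_radical [Finite G] {H : Subgroup G} {g : G} :
    g ∈ normP p H ↔ ∃ R : Subgroup G, H ≤ R ∧
      (Cfsg.pCore p (normalizer (R : Set G))).map (normalizer (R : Set G)).subtype = R ∧
      g ∈ normalizer (R : Set G) := by
  constructor
  · rintro ⟨R₀, hR₀, hHR₀, hg₀⟩
    obtain ⟨R, hle, hmax⟩ :=
      (Set.toFinite {R : Subgroup G | IsPGroup p R ∧ H ≤ R ∧ g ∈ normalizer (R : Set G)}).exists_le_maximal
        (a := R₀) ⟨hR₀, hHR₀, hg₀⟩
    obtain ⟨hR, hHR, hg⟩ := hmax.prop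
    refine ⟨R, hHR, le_antisymm ?_ (le_map_pCore_normalizer hR), hg⟩
    exact hmax.2 ⟨PSolvable.pCore_isPGroup.map _, hHR.trans (le_map_pCore_normalizer hR),
      map_pCore_normalizer_le R hg⟩ (le_map_pCore_normalizer hR)
  · rintro ⟨R, hHR, hR, hg⟩
    exact ⟨R, hR ▸ PSolvable.pCore_isPGroup.map _, hHR, hg⟩

/-- The intersection of the Sylow `p`-subgroups containing `R`. -/
def sylowInf (p : ℕ) (R : Subgroup G) : Subgroup G :=
  sInf {K : Subgroup G | ∃ Q : Sylow p G, R ≤ (Q : Subgroup G) ∧ K = (Q : Subgroup G)}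

theorem le_sylowInf (R : Subgroup G) : R ≤ sylowInf p R :=
  le_sInf fun _ ⟨_, hQ, hK⟩ => hK ▸ hQ

theorem sylowInf_le {R : Subgroup G} {Q : Sylow p G} (h : R ≤ (Q : Subgroup G)) :
    sylowInf p R ≤ (Q : Subgroup G) :=
  sInf_le ⟨Q, h, rfl⟩

theorem sylowInf_isPGroup {R : Subgroup G} (hR : IsPGroup p R) : IsPGroup p (sylowInf p R) := by
  obtain ⟨Q, hQ⟩ := hR.exists_le_sylow
  exact Q.isPGroup'.to_le (sylowInf_le hQ)

theorem sylowInf_mono {H R : Subgroup G} (h : H ≤ R) : sylowInf p H ≤ sylowInf p R :=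
  le_sInf fun _ ⟨_, hQ, hK⟩ => hK ▸ sylowInf_le (h.trans hQ)

open scoped Pointwise in
theorem sylowInf_radical [Finite G] [Fact p.Prime] {R : Subgroup G}
    (hR : (Cfsg.pCore p (normalizer (R : Set G))).map (normalizer (R : Set G)).subtype = R) :
    sylowInf p R = R := by
  have hRp : IsPGroup p R := hR ▸ PSolvable.pCore_isPGroup.map _
  refine le_antisymm ?_ (le_sylowInf R)
  by_contra hnle
  set I := sylowInf p R with hI
  set N := normalizer (R : Set G) with hN
  have hlt : R < I := lt_of_le_of_ne (le_sylowInf R) fun e => hnle e.symm.le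
  refine (Cfsg.Agent.Lib.Transfer.lt_inf_normalizer (sylowInf_isPGroup hRp) hlt).not_ge ?_
  -- `I` is invariant under `N(R)`
  have hinv : ∀ a ∈ N, ∀ x ∈ I, a * x * a⁻¹ ∈ I := by
    intro a ha x hx
    rw [hI, sylowInf, Subgroup.mem_sInf]
    rintro _ ⟨Q, hQ, rfl⟩
    have hQ' : R ≤ ((a⁻¹ • Q : Sylow p G) : Subgroup G) := by
      intro r hr
      show r ∈ MulAut.conj a⁻¹ • (Q : Subgroup G)
      rw [Subgroup.mem_pointwise_smul_iff_inv_smul_mem]
      have := hQ ((Subgroup.mem_normalizer_iff.mp ha r).mp hr)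
      simpa [MulAut.smul_def, MulAut.inv_def] using this
    have h1 : x ∈ MulAut.conj a⁻¹ • (Q : Subgroup G) := sylowInf_le hQ' hx
    rw [Subgroup.mem_pointwise_smul_iff_inv_smul_mem] at h1
    simpa [MulAut.smul_def, MulAut.inv_def] using h1
  haveI : (I.subgroupOf N).Normal := ⟨fun x hx a => hinv a a.2 x hx⟩
  intro x hx
  obtain ⟨hxI, hxN⟩ := Subgroup.mem_inf.mp hx
  rw [← hR]
  exact ⟨⟨x, hxN⟩, PSolvable.le_pCore (N := I.subgroupOf N) (sylowInf_isPGroup hRp).comap_subtype hxI, rfl⟩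

theorem normP_sylowInf [Finite G] [Fact p.Prime] (H : Subgroup G) :
    normP p (sylowInf p H) = normP p H := by
  ext g
  constructor
  · rintro ⟨R, hR, hle, hg⟩
    exact ⟨R, hR, (le_sylowInf H).trans hle, hg⟩
  · intro hg
    obtain ⟨R, hHR, hR, hg⟩ := mem_normP_iff_radical.mp hg
    exact ⟨R, hR ▸ PSolvable.pCore_isPGroup.map _,
      (sylowInf_mono hHR).trans (sylowInf_radical hR).le, hg⟩

end Cfsg.Agent.Lib.Subnormalizer
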