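import Mathlib
import Cfsg.Agent.Lib.Subnormalizer.Basic
import Cfsg.Agent.Lib.Transfer.Criteria

/-!
Casolo's formula: the number of elements normalizing some `p`-subgroup containing `H` is the number
of Sylow `p`-subgroups containing `H` times the order of a Sylow normalizer.
-/

set_option autoImplicit false

namespace Cfsg.Agent.Lib.Subnormalizer

open Subgroup Classical
open scoped Pointwise

universe u

variable {G : Type u} [Group G] [Finite G] {p : ℕ}

noncomputable local instance subnormalizerSubgroupFintype (K : Type u) [Group K] [Finite K] :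
    Fintype (Subgroup K) := Fintype.ofFinite _

noncomputable local instance subnormalizerElemFintype (K : Type u) [Finite K] : Fintype K :=
  Fintype.ofFinite _

/-- `R` is a `p`-subgroup normalized by `g`. -/
def Adm (p : ℕ) (g : G) (R : Subgroup G) : Prop := IsPGroup p R ∧ g ∈ normalizer (R : Set G)

/-- Möbius weight of `R` in the poset of `p`-subgroups normalized by `g`. -/
noncomputable def mob (p : ℕ) (g : G) : Subgroup G → ℤ :=
  (wellFounded_gt (α := Subgroup G)).fix fun R rec =>
    if Adm p g R then 1 - ∑ R' ∈ Finset.univ.filter (fun R' => R < R'),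
      (if h : R < R' then rec R' h else 0) else 0

theorem mob_def (g : G) (R : Subgroup G) : mob p g R =
    if Adm p g R then 1 - ∑ R' ∈ Finset.univ.filter (fun R' => R < R'), mob p g R' else 0 := by
  conv_lhs => rw [mob, WellFounded.fix_eq]
  refine if_congr Iff.rfl ?_ rfl
  congr 1
  refine Finset.sum_congr rfl fun R' hR' => ?_
  rw [dif_pos (Finset.mem_filter.mp hR').2]
  rfl

theorem mob_of_not {g : G} {R : Subgroup G} (h : ¬ Adm p g R) : mob p g R = 0 := by
  rw [mob_def, if_neg h]

theorem mob_of_adm {g : G} {R : Subgroup G} (h : Adm p g R) :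
    mob p g R = 1 - ∑ R' ∈ Finset.univ.filter (fun R' => R < R'), mob p g R' := by
  rw [mob_def, if_pos h]

theorem sum_ge_of_adm {g : G} {R : Subgroup G} (h : Adm p g R) :
    ∑ R' ∈ Finset.univ.filter (fun R' => R ≤ R'), mob p g R' = 1 := by
  have : Finset.univ.filter (fun R' => R ≤ R') =
      insert R (Finset.univ.filter (fun R' => R < R')) := by
    ext S
    simp [le_iff_eq_or_lt, eq_comm]
  rw [this, Finset.sum_insert (by simp), mob_of_adm h]
  ring

theorem sum_ge (g : G) (H : Subgroup G) :
    ∑ R ∈ Finset.univ.filter (fun R => H ≤ R), mob p g R = if g ∈ normP p H then 1 else 0 := by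
  split_ifs with hg
  · obtain ⟨R₀, hR₀, hH₀, hg₀⟩ := hg
    set S := {R : Subgroup G | IsPGroup p R ∧ H ≤ R ∧ g ∈ normalizer (R : Set G)} with hS
    set M := sInf S with hM
    have hMadm : Adm p g M := by
      refine ⟨hR₀.to_le (sInf_le ⟨hR₀, hH₀, hg₀⟩), ?_⟩
      rw [Subgroup.mem_normalizer_iff]
      intro x
      rw [hM, Subgroup.mem_sInf, Subgroup.mem_sInf]
      exact ⟨fun h R hR => (Subgroup.mem_normalizer_iff.mp hR.2.2 x).mp (h R hR),
        fun h R hR => (Subgroup.mem_normalizer_iff.mp hR.2.2 x).mpr (h R hR)⟩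
    refine Eq.trans ?_ (sum_ge_of_adm hMadm)
    refine (Finset.sum_subset ?_ ?_).symm
    · intro R hR
      rw [Finset.mem_filter] at hR ⊢
      exact ⟨hR.1, (le_sInf fun S' hS' => hS'.2.1).trans hR.2⟩
    · intro R hR hR'
      rw [Finset.mem_filter] at hR hR'
      refine mob_of_not fun hadm => hR' ⟨hR.1, ?_⟩
      exact sInf_le ⟨hadm.1, hR.2, hadm.2⟩
  · refine Finset.sum_eq_zero fun R hR => mob_of_not fun hadm => hg ?_
    exact ⟨R, hadm.1, (Finset.mem_filter.mp hR).2, hadm.2⟩

/-- Total weight of `R`. -/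
noncomputable def weight (p : ℕ) (R : Subgroup G) : ℤ := ∑ g : G, mob p g R

theorem card_normP_eq (H : Subgroup G) :
    (Nat.card (normP p H) : ℤ) = ∑ R ∈ Finset.univ.filter (fun R => H ≤ R), weight p R := by
  simp only [weight]
  rw [Finset.sum_comm]
  simp only [sum_ge]
  rw [Finset.sum_boole, Nat.card_eq_fintype_card, Fintype.card_ofFinset]

theorem weight_of_not_pGroup {R : Subgroup G} (h : ¬ IsPGroup p R) : weight p R = 0 :=
  Finset.sum_eq_zero fun _ _ => mob_of_not fun h' => h h'.1

theorem weight_sylow [Fact p.Prime] (Q : Sylow p G) :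
    weight p (Q : Subgroup G) = Nat.card (normalizer ((Q : Subgroup G) : Set G)) := by
  have hmob : ∀ g : G, mob p g (Q : Subgroup G) =
      if g ∈ normalizer ((Q : Subgroup G) : Set G) then 1 else 0 := by
    intro g
    split_ifs with hg
    · rw [mob_of_adm ⟨Q.isPGroup', hg⟩, Finset.sum_eq_zero, sub_zero]
      intro R hR
      exact mob_of_not fun h => (Finset.mem_filter.mp hR).2.ne
        (Q.is_maximal' h.1 (Finset.mem_filter.mp hR).2.le).symm
    · exact mob_of_not fun h => hg h.2
  simp only [weight, hmob, Finset.sum_boole]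
  rw [Nat.card_eq_fintype_card, Fintype.card_subtype]

/-- The weight of `R` seen in the quotient of its normalizer. -/
theorem mob_quotient [Fact p.Prime] {R : Subgroup G} (hR : IsPGroup p R)
    (l : normalizer (R : Set G)) :
    haveI : (R.subgroupOf (normalizer (R : Set G))).Normal := normal_in_normalizer
    mob p (l : G) R = mob p (QuotientGroup.mk' (R.subgroupOf (normalizer (R : Set G))) l) ⊥ := by
  haveI hN : (R.subgroupOf (normalizer (R : Set G))).Normal := normal_in_normalizer
  set f := QuotientGroup.mk' (R.subgroupOf (normalizer (R : Set G))) with hf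
  let im : Subgroup G → Subgroup (↥(normalizer (R : Set G)) ⧸ R.subgroupOf (normalizer (R : Set G))) := fun R' => (R'.subgroupOf (normalizer (R : Set G))).map f
  let pre : Subgroup (↥(normalizer (R : Set G)) ⧸ R.subgroupOf (normalizer (R : Set G))) → Subgroup G := fun K => (K.comap f).map (normalizer (R : Set G)).subtype
  have hRpre : ∀ K, R ≤ pre K := by
    intro K x hx
    refine ⟨⟨x, le_normalizer hx⟩, ?_, rfl⟩
    show f _ ∈ K
    rw [hf, QuotientGroup.mk'_apply,
      (QuotientGroup.eq_one_iff _).mpr (show (⟨x, le_normalizer hx⟩ : (normalizer (R : Set G))) ∈ R.subgroupOf (normalizer (R : Set G)) from hx)]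
    exact one_mem K
  have hgal : ∀ K R', R ≤ R' → (K ≤ im R' ↔ pre K ≤ R') := by
    intro K R' hle
    constructor
    · rintro h _ ⟨y, hy, rfl⟩
      obtain ⟨z, hz, hzy⟩ := h hy
      rw [hf, QuotientGroup.mk'_apply, QuotientGroup.mk'_apply, QuotientGroup.eq] at hzy
      have : (z : G) * ((z : G)⁻¹ * (y : G)) ∈ R' := mul_mem hz (hle hzy)
      simpa using this
    · intro h k hk
      obtain ⟨y, rfl⟩ := QuotientGroup.mk'_surjective (R.subgroupOf (normalizer (R : Set G))) k
      exact ⟨y, h ⟨y, hk, rfl⟩, rfl⟩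
  have him : ∀ R', Adm p (l : G) R' → Adm p (f l) (im R') := by
    intro R' h
    refine ⟨h.1.comap_subtype.map f, Subgroup.le_normalizer_map f ⟨l, ?_, rfl⟩⟩
    rw [SetLike.mem_coe, Subgroup.mem_normalizer_iff]
    intro y
    exact (show (y : G) ∈ R' ↔ (l : G) * (y : G) * (l : G)⁻¹ ∈ R' from
      Subgroup.mem_normalizer_iff.mp h.2 _)
  have hpre : ∀ K, Adm p (f l) K → Adm p (l : G) (pre K) := by
    intro K h
    refine ⟨(h.1.comap_of_ker_isPGroup f ?_).map _, Subgroup.le_normalizer_map (normalizer (R : Set G)).subtype ⟨l, ?_, rfl⟩⟩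
    · rw [hf, QuotientGroup.ker_mk']
      exact hR.comap_subtype
    · rw [SetLike.mem_coe, Subgroup.mem_normalizer_iff]
      intro y
      simp only [Subgroup.mem_comap, map_mul, map_inv]
      exact Subgroup.mem_normalizer_iff.mp h.2 (f y)
  have hne : ∀ R', R < R' → Adm p (l : G) R' → im R' ≠ ⊥ := by
    intro R' hlt h e
    refine (Cfsg.Agent.Lib.Transfer.lt_inf_normalizer h.1 hlt).not_ge fun x hx => ?_
    obtain ⟨h1, h2⟩ := Subgroup.mem_inf.mp hx
    have : f ⟨x, h2⟩ ∈ im R' := ⟨⟨x, h2⟩, h1, rfl⟩
    rw [e, Subgroup.mem_bot, hf, QuotientGroup.mk'_apply, QuotientGroup.eq_one_iff] at this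
    exact this
  set s := Finset.univ.filter (fun R' : Subgroup G => R < R') with hs
  let lhs : Subgroup (↥(normalizer (R : Set G)) ⧸ R.subgroupOf (normalizer (R : Set G))) → ℤ := fun K =>
    ∑ R' ∈ s.filter (fun R' => im R' = K), mob p (l : G) R'
  have hclaim : ∀ K, K ≠ ⊥ → lhs K = mob p (f l) K := by
    intro K
    induction K using WellFoundedGT.induction with
    | _ K ih =>
      intro hK
      by_cases hadm : Adm p (f l) K
      swap
      · rw [mob_of_not hadm]
        refine Finset.sum_eq_zero fun R' hR' => mob_of_not fun h => hadm ?_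
        rw [← (Finset.mem_filter.mp hR').2]
        exact him R' h
      have h1 : ∑ K' ∈ Finset.univ.filter (fun K' => K ≤ K'), lhs K' = 1 := by
        refine Eq.trans ?_ (sum_ge_of_adm (hpre K hadm))
        have hset : Finset.univ.filter (fun R' => pre K ≤ R') = s.filter (fun R' => K ≤ im R') := by
          ext R'
          simp only [hs, Finset.mem_filter, Finset.mem_univ, true_and]
          constructor
          · intro h
            refine ⟨lt_of_le_of_ne ((hRpre K).trans h) ?_, (hgal K R' ((hRpre K).trans h)).mpr h⟩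
            intro e
            apply hK
            rw [eq_bot_iff]
            intro k hk
            obtain ⟨y, rfl⟩ := QuotientGroup.mk'_surjective (R.subgroupOf (normalizer (R : Set G))) k
            rw [Subgroup.mem_bot, QuotientGroup.mk'_apply, QuotientGroup.eq_one_iff]
            exact (SetLike.ext_iff.mp e (y : G)).mpr (h ⟨y, hk, rfl⟩)
          · rintro ⟨h1, h2⟩
            exact (hgal K R' h1.le).mp h2
        rw [hset, ← Finset.sum_fiberwise_of_maps_to (g := im)
          (t := Finset.univ.filter (fun K' => K ≤ K')) (fun R' hR' => by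
            simpa using (Finset.mem_filter.mp hR').2)]
        refine Finset.sum_congr rfl fun K' hK' => ?_
        refine Finset.sum_congr ?_ fun _ _ => rfl
        ext R'
        simp only [Finset.mem_filter] at hK' ⊢
        exact ⟨fun h => ⟨⟨h.1, h.2.symm ▸ hK'.2⟩, h.2⟩, fun h => ⟨h.1.1, h.2⟩⟩
      have h2 := sum_ge_of_adm hadm
      have hins : Finset.univ.filter (fun K' => K ≤ K') =
          insert K (Finset.univ.filter (fun K' => K < K')) := by
        ext S
        simp [le_iff_eq_or_lt, eq_comm]
      rw [hins, Finset.sum_insert (by simp)] at h1 h2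
      have h3 : ∑ K' ∈ Finset.univ.filter (fun K' => K < K'), lhs K' =
          ∑ K' ∈ Finset.univ.filter (fun K' => K < K'), mob p (f l) K' := by
        refine Finset.sum_congr rfl fun K' hK' => ?_
        have := (Finset.mem_filter.mp hK').2
        exact ih K' this (ne_bot_of_gt this)
      linarith
  have hbot : Adm p (f l) ⊥ := ⟨IsPGroup.of_bot, by
    rw [Subgroup.mem_normalizer_iff]; simp⟩
  rw [mob_of_adm ⟨hR, l.2⟩, mob_of_adm hbot]
  congr 1
  rw [← hs, ← Finset.sum_fiberwise s im (fun R' => mob p (l : G) R')]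
  refine Eq.trans (Finset.sum_subset (Finset.subset_univ _) ?_).symm
    (Finset.sum_congr rfl fun K hK => hclaim K (ne_bot_of_gt (Finset.mem_filter.mp hK).2))
  intro K _ hK
  simp only [Finset.mem_filter, Finset.mem_univ, true_and, bot_lt_iff_ne_bot, not_not] at hK
  refine Finset.sum_eq_zero fun R' hR' => mob_of_not fun h => ?_
  obtain ⟨h1, h2⟩ := Finset.mem_filter.mp hR'
  exact hne R' (Finset.mem_filter.mp h1).2 h (h2.trans hK)

theorem sylow_filter [Fact p.Prime] (H : Subgroup G) :
    Finset.univ.filter (fun R : Subgroup G => (IsPGroup p R ∧ ¬ p ∣ R.index) ∧ H ≤ R) =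
      (Finset.univ.filter (fun Q : Sylow p G => H ≤ (Q : Subgroup G))).image (fun Q : Sylow p G => (Q : Subgroup G)) := by
  ext R
  simp only [Finset.mem_filter, Finset.mem_univ, true_and, Finset.mem_image]
  constructor
  · rintro ⟨⟨h1, h2⟩, h3⟩
    exact ⟨h1.toSylow h2, h3, rfl⟩
  · rintro ⟨Q, hQ, rfl⟩
    exact ⟨⟨Q.isPGroup', Q.not_dvd_index⟩, hQ⟩

theorem sum_weight [Fact p.Prime] (H : Subgroup G)
    (hzero : ∀ R : Subgroup G, H ≤ R → IsPGroup p R → p ∣ R.index → weight p R = 0) :
    (Nat.card (normP p H) : ℤ) =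
      ∑ Q ∈ Finset.univ.filter (fun Q : Sylow p G => H ≤ (Q : Subgroup G)),
        (Nat.card (normalizer ((Q : Subgroup G) : Set G)) : ℤ) := by
  rw [card_normP_eq, ← Finset.sum_congr rfl (fun Q _ => weight_sylow Q),
    ← Finset.sum_image (f := fun R => weight p R) (g := fun Q : Sylow p G => (Q : Subgroup G))
      (fun Q₁ _ Q₂ _ h => Sylow.ext h), ← sylow_filter H]
  refine (Finset.sum_subset ?_ ?_).symm
  · intro R hR
    rw [Finset.mem_filter] at hR ⊢
    exact ⟨hR.1, hR.2.2⟩
  · intro R hR hR'
    rw [Finset.mem_filter] at hR hR'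
    by_cases hp : IsPGroup p R
    · exact hzero R hR.2 hp (by
        by_contra h
        exact hR' ⟨hR.1, ⟨hp, h⟩, hR.2⟩)
    · exact weight_of_not_pGroup hp

theorem card_normalizer_eq [Fact p.Prime] (P Q : Sylow p G) :
    Nat.card (normalizer ((Q : Subgroup G) : Set G)) = Nat.card (normalizer ((P : Subgroup G) : Set G)) := by
  have a := (normalizer ((Q : Subgroup G) : Set G)).card_mul_index
  have hQ : (normalizer ((Q : Subgroup G) : Set G)).index = Nat.card (Sylow p G) :=
    Q.card_eq_index_normalizer.symm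
  have hP : (normalizer ((P : Subgroup G) : Set G)).index = Nat.card (Sylow p G) :=
    P.card_eq_index_normalizer.symm
  rw [hQ, ← (normalizer ((P : Subgroup G) : Set G)).card_mul_index, hP] at a
  exact Nat.eq_of_mul_eq_mul_right Nat.card_pos a

theorem weight_eq_zero [hp : Fact p.Prime] (n : ℕ) :
    ∀ (K : Type u) [Group K] [Finite K], Nat.card K = n →
      ∀ R : Subgroup K, IsPGroup p R → p ∣ R.index → weight p R = 0 := by
  induction n using Nat.strong_induction_on with
  | _ n ih => ?_
  intro K _ _ hn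
  have step : ∀ R : Subgroup K, R ≠ ⊥ → IsPGroup p R → p ∣ R.index → weight p R = 0 := by
    intro R hR1 hR hidx
    haveI : (R.subgroupOf (normalizer (R : Set K))).Normal := normal_in_normalizer
    set L := normalizer (R : Set K) with hL
    have hzero : ∀ g : K, g ∉ L → mob p g R = 0 := fun g hg => mob_of_not fun h => hg h.2
    have h1 : weight p R = ∑ l : L, mob p (l : K) R := by
      rw [weight, ← Finset.sum_subset (Finset.subset_univ (Finset.univ.filter (· ∈ L)))
        (fun g _ hg => hzero g (by simpa using hg))]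
      exact Finset.sum_subtype _ (by simp) _
    have hdvd : p ∣ Nat.card (↥L ⧸ R.subgroupOf L) := by
      obtain ⟨k, hk⟩ := hR.exists_card_eq
      refine Sylow.prime_dvd_card_quotient_normalizer (n := k) ?_ hk
      rw [pow_succ, ← R.card_mul_index, hk]
      exact Nat.mul_dvd_mul_left _ hidx
    have hlt : Nat.card (↥L ⧸ R.subgroupOf L) < n := by
      rw [← hn]
      refine lt_of_lt_of_le ?_ (Subgroup.card_le_card_group L)
      rw [(R.subgroupOf L).card_eq_card_quotient_mul_card_subgroup]
      refine lt_mul_right Nat.card_pos ?_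
      rw [Nat.card_congr (Subgroup.subgroupOfEquivOfLe le_normalizer).toEquiv]
      exact R.one_lt_card_iff_ne_bot.mpr hR1
    have h0 := ih _ hlt (↥L ⧸ R.subgroupOf L) rfl ⊥ IsPGroup.of_bot (by rwa [Subgroup.index_bot])
    rw [h1, Finset.sum_congr rfl (fun l _ => mob_quotient hR l),
      ← Finset.sum_fiberwise Finset.univ (QuotientGroup.mk' (R.subgroupOf L))]
    rw [weight] at h0
    have hfib : ∀ q : ↥L ⧸ R.subgroupOf L,
        (∑ l ∈ Finset.univ.filter (fun l => QuotientGroup.mk' (R.subgroupOf L) l = q),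
          mob p (QuotientGroup.mk' (R.subgroupOf L) l) ⊥) =
        (Nat.card (R.subgroupOf L) : ℤ) * mob p q ⊥ := by
      intro q
      rw [Finset.sum_congr rfl (fun l hl => by rw [(Finset.mem_filter.mp hl).2]), Finset.sum_const,
        nsmul_eq_mul]
      congr 2
      obtain ⟨l₀, rfl⟩ := QuotientGroup.mk'_surjective (R.subgroupOf L) q
      rw [Nat.card_eq_fintype_card]
      rw [Fintype.card_subtype (fun x : ↥L => x ∈ R.subgroupOf L)]
      refine Finset.card_bij' (fun x _ => l₀⁻¹ * x) (fun r _ => l₀ * r) ?_ ?_ ?_ ?_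
      · intro x hx
        refine Finset.mem_filter.mpr ⟨Finset.mem_univ _, ?_⟩
        exact QuotientGroup.eq.mp ((Finset.mem_filter.mp hx).2).symm
      · intro x hx
        refine Finset.mem_filter.mpr ⟨Finset.mem_univ _, ?_⟩
        refine (QuotientGroup.eq.mpr ?_).symm
        rw [inv_mul_cancel_left]
        exact (Finset.mem_filter.mp hx).2
      · intro x _; simp
      · intro x _; simp
    rw [Finset.sum_congr rfl (fun q _ => hfib q), ← Finset.mul_sum]
    refine mul_eq_zero_of_right _ (Eq.trans ?_ h0)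
    exact Finset.sum_congr (by ext; simp) fun _ _ => rfl
  intro R hR hidx
  by_cases hR1 : R = ⊥
  swap
  · exact step R hR1 hR hidx
  subst hR1
  have hall : ∀ g : K, g ∈ normP p (⊥ : Subgroup K) := fun g =>
    ⟨⊥, IsPGroup.of_bot, le_rfl, by rw [Subgroup.mem_normalizer_iff]; simp⟩
  have h1 := card_normP_eq (p := p) (⊥ : Subgroup K)
  rw [Nat.card_congr (Equiv.subtypeUnivEquiv hall)] at h1
  have h2 : ∑ R ∈ Finset.univ.filter (fun R : Subgroup K => (⊥ : Subgroup K) ≤ R), weight p R =
      weight p (⊥ : Subgroup K) + ∑ Q : Sylow p K, (Nat.card (normalizer ((Q : Subgroup K) : Set K)) : ℤ) := by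
    rw [Finset.sum_congr rfl (fun Q _ => (weight_sylow Q).symm)]
    have huniv : (Finset.univ : Finset (Sylow p K)) =
        Finset.univ.filter (fun Q : Sylow p K => (⊥ : Subgroup K) ≤ (Q : Subgroup K)) := by simp
    rw [huniv, ← Finset.sum_image (f := fun R => weight p R) (g := fun Q : Sylow p K => (Q : Subgroup K))
      (fun Q₁ _ Q₂ _ h => Sylow.ext h), ← sylow_filter]
    have hnotin : (⊥ : Subgroup K) ∉ Finset.univ.filter
        (fun R : Subgroup K => (IsPGroup p R ∧ ¬ p ∣ R.index) ∧ ⊥ ≤ R) := fun h =>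
      (Finset.mem_filter.mp h).2.1.2 hidx
    rw [← Finset.sum_insert hnotin]
    refine (Finset.sum_subset ?_ ?_).symm
    · intro R _; simp
    · intro R _ hR'
      simp only [Finset.mem_insert, Finset.mem_filter, Finset.mem_univ, true_and, bot_le, and_true,
        not_or, not_and, not_not] at hR'
      by_cases hpR : IsPGroup p R
      · exact step R hR'.1 hpR (hR'.2 hpR)
      · exact weight_of_not_pGroup hpR
  have h3 : ∑ Q : Sylow p K, (Nat.card (normalizer ((Q : Subgroup K) : Set K)) : ℤ) = Nat.card K := by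
    obtain ⟨P⟩ := (inferInstance : Nonempty (Sylow p K))
    have hP : (normalizer ((P : Subgroup K) : Set K)).index = Nat.card (Sylow p K) :=
      P.card_eq_index_normalizer.symm
    rw [Finset.sum_congr rfl (fun Q _ => by rw [card_normalizer_eq P Q]), Finset.sum_const, nsmul_eq_mul,
      Finset.card_univ, ← Nat.card_eq_fintype_card, ← Nat.cast_mul, ← hP, mul_comm, Subgroup.card_mul_index]
  rw [h2, h3] at h1
  linarith

/-- **Casolo's formula.** -/
theorem card_normP [Fact p.Prime] (H : Subgroup G) (P : Sylow p G) :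
    Nat.card (normP p H) = Nat.card {Q : Sylow p G // H ≤ (Q : Subgroup G)} *
      Nat.card (normalizer ((P : Subgroup G) : Set G)) := by
  have h := sum_weight (p := p) H (fun R _ hR hidx => weight_eq_zero _ G rfl R hR hidx)
  rw [Finset.sum_congr rfl (fun Q _ => by rw [card_normalizer_eq P Q]), Finset.sum_const, nsmul_eq_mul] at h
  rw [Nat.card_eq_fintype_card (α := {Q : Sylow p G // H ≤ (Q : Subgroup G)}), Fintype.card_subtype]
  exact_mod_cast h

end Cfsg.Agent.Lib.Subnormalizer
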