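import Mathlib
import Cfsg.Agent.Lib.Subnormalizer.Count

/-!
The subnormalizer count modulo a normal `p`-subgroup or a normal `p'`-subgroup.
-/

set_option autoImplicit false

namespace Cfsg.Agent.Lib.Subnormalizer

open Subgroup Classical
open scoped Pointwise

universe u v

variable {G : Type u} [Group G] [Finite G] {G' : Type v} [Group G'] {p : ℕ} (φ : G →* G')

theorem card_preimage_surjective (hφ : Function.Surjective φ) (S : Set G') :
    Nat.card (φ ⁻¹' S) = Nat.card φ.ker * Nat.card S := by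
  rw [← Nat.card_prod]
  choose sec hsec using hφ
  refine (Nat.card_congr (Equiv.ofBijective
    (fun x : φ.ker × S => (⟨(x.1 : G) * sec x.2, ?_⟩ : φ ⁻¹' S)) ⟨?_, ?_⟩)).symm
  · show φ _ ∈ S
    rw [map_mul, MonoidHom.mem_ker.mp x.1.2, one_mul, hsec]
    exact x.2.2
  · rintro ⟨k, s⟩ ⟨k', s'⟩ h
    have h' : (k : G) * sec s = (k' : G) * sec s' := congrArg Subtype.val h
    have hs : s = s' := Subtype.ext (by
      have := congrArg φ h'
      rwa [map_mul, map_mul, MonoidHom.mem_ker.mp k.2, MonoidHom.mem_ker.mp k'.2, one_mul, one_mul,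
        hsec, hsec] at this)
    subst hs
    exact Prod.ext (Subtype.ext (mul_right_cancel h')) rfl
  · rintro ⟨g, hg⟩
    refine ⟨⟨⟨g * (sec (φ g))⁻¹, ?_⟩, ⟨φ g, hg⟩⟩, Subtype.ext (inv_mul_cancel_right _ _)⟩
    rw [MonoidHom.mem_ker, map_mul, map_inv, hsec, mul_inv_cancel]

theorem normP_comap_of_pGroup (hφ : Function.Surjective φ) (hker : IsPGroup p φ.ker)
    (H : Subgroup G) : normP p H = φ ⁻¹' normP p (H.map φ) := by
  ext g
  constructor
  · rintro ⟨R, hR, hHR, hg⟩
    exact ⟨R.map φ, hR.map φ, Subgroup.map_mono hHR, Subgroup.le_normalizer_map φ ⟨g, hg, rfl⟩⟩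
  · rintro ⟨R, hR, hHR, hg⟩
    refine ⟨R.comap φ, hR.comap_of_ker_isPGroup φ hker, Subgroup.map_le_iff_le_comap.mp hHR, ?_⟩
    rw [Subgroup.mem_normalizer_iff]
    intro y
    simp only [Subgroup.mem_comap, map_mul, map_inv]
    exact Subgroup.mem_normalizer_iff.mp hg (φ y)

theorem card_normP_of_pGroup (hφ : Function.Surjective φ) (hker : IsPGroup p φ.ker)
    (H : Subgroup G) :
    Nat.card (normP p H) = Nat.card φ.ker * Nat.card (normP p (H.map φ)) := by
  rw [normP_comap_of_pGroup φ hφ hker H, card_preimage_surjective φ hφ]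

variable [hp : Fact p.Prime]

theorem mem_smul_sylow {g x : G} {Q : Sylow p G} :
    x ∈ ((g • Q : Sylow p G) : Subgroup G) ↔ g⁻¹ * x * g ∈ (Q : Subgroup G) := by
  show x ∈ MulAut.conj g • (Q : Subgroup G) ↔ _
  rw [Subgroup.mem_pointwise_smul_iff_inv_smul_mem]
  simp [MulAut.smul_def, MulAut.inv_def]

theorem mapSurjective_smul (hφ : Function.Surjective φ) (g : G) (Q : Sylow p G) :
    (g • Q).mapSurjective hφ = φ g • Q.mapSurjective hφ := by
  apply Sylow.ext
  show (MulAut.conj g • (Q : Subgroup G)).map φ = MulAut.conj (φ g) • ((Q : Subgroup G).map φ)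
  have e1 : MulAut.conj g • (Q : Subgroup G) = (Q : Subgroup G).map (MulAut.conj g).toMonoidHom := rfl
  have e2 : MulAut.conj (φ g) • ((Q : Subgroup G).map φ) =
      ((Q : Subgroup G).map φ).map (MulAut.conj (φ g)).toMonoidHom := rfl
  rw [e1, e2, Subgroup.map_map, Subgroup.map_map]
  congr 1
  ext x
  simp

/-- Sylow subgroups with the same image are conjugate under the kernel. -/
theorem exists_ker_conj (hφ : Function.Surjective φ) {Q Q₀ : Sylow p G}
    (h : Q.mapSurjective hφ = Q₀.mapSurjective hφ) : ∃ m ∈ φ.ker, Q = m • Q₀ := by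
  have hmap : (Q : Subgroup G).map φ = (Q₀ : Subgroup G).map φ := congrArg (fun R : Sylow p G' => (R : Subgroup G')) h
  set X := ((Q₀ : Subgroup G).map φ).comap φ with hX
  have hQ : (Q : Subgroup G) ≤ X := Subgroup.map_le_iff_le_comap.mp hmap.le
  have hQ₀ : (Q₀ : Subgroup G) ≤ X := Subgroup.le_comap_map φ _
  obtain ⟨x, hx⟩ := MulAction.exists_smul_eq X (Q₀.subtype hQ₀) (Q.subtype hQ)
  have hx' : Q = (x : G) • Q₀ := by
    apply Sylow.ext
    ext y
    rw [mem_smul_sylow]
    constructor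
    · intro hy
      have h1 : (⟨y, hQ hy⟩ : X) ∈ ((Q.subtype hQ : Sylow p X) : Subgroup X) := hy
      rw [← hx, mem_smul_sylow] at h1
      exact h1
    · intro hy
      have hy' : y ∈ X := by
        have := X.mul_mem (X.mul_mem x.2 (hQ₀ hy)) (X.inv_mem x.2)
        simpa [mul_assoc] using this
      have h1 : (⟨y, hy'⟩ : X) ∈ ((x • Q₀.subtype hQ₀ : Sylow p X) : Subgroup X) :=
        mem_smul_sylow.mpr hy
      rwa [hx] at h1
  obtain ⟨q, hq, hqx⟩ := x.2
  refine ⟨(x : G) * q⁻¹, by rw [MonoidHom.mem_ker, map_mul, map_inv, hqx, mul_inv_cancel], ?_⟩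
  rw [hx', mul_smul, (Sylow.smul_eq_iff_mem_normalizer (g := q⁻¹) (P := Q₀)).mpr
    (Subgroup.le_normalizer (inv_mem hq))]

theorem card_normP_of_coprime [Finite G'] (hφ : Function.Surjective φ)
    (hker : (Nat.card φ.ker).Coprime p) {H : Subgroup G} (hH : IsPGroup p H) :
    Nat.card (normP p H) =
      Nat.card (φ.ker ⊓ centralizer (H : Set G) : Subgroup G) * Nat.card (normP p (H.map φ)) := by
  set C := φ.ker ⊓ centralizer (H : Set G) with hC
  haveI : Fintype (Sylow p G) := Fintype.ofFinite _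
  haveI : Fintype (Sylow p G') := Fintype.ofFinite _
  obtain ⟨P⟩ := (inferInstance : Nonempty (Sylow p G))
  rw [card_normP H P, card_normP (H.map φ) (P.mapSurjective hφ)]
  have hdisj : ∀ Q : Sylow p G, (Q : Subgroup G) ⊓ φ.ker = ⊥ := fun Q =>
    PSolvable.inf_eq_bot_of_isPGroup_of_coprime Q.isPGroup' hker
  have hcent : ∀ (Q : Sylow p G), ∀ m ∈ φ.ker, ∀ q ∈ (Q : Subgroup G),
      m⁻¹ * q * m ∈ (Q : Subgroup G) → m * q = q * m := by
    intro Q m hm q hq hq'
    have h1 : q⁻¹ * (m⁻¹ * q * m) ∈ (Q : Subgroup G) ⊓ φ.ker := by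
      refine Subgroup.mem_inf.mpr ⟨mul_mem (inv_mem hq) hq', ?_⟩
      rw [MonoidHom.mem_ker] at hm ⊢
      simp [hm]
    rw [hdisj Q, Subgroup.mem_bot, inv_mul_eq_one] at h1
    nth_rewrite 1 [h1]
    group
  have hfib : ∀ Q' ∈ (Finset.univ.filter fun Q' : Sylow p G' => H.map φ ≤ (Q' : Subgroup G')),
      ((Finset.univ.filter fun Q : Sylow p G => H ≤ (Q : Subgroup G)).filter
          fun Q => Q.mapSurjective hφ = Q').card * Nat.card (normalizer ((P : Subgroup G) : Set G)) =
        Nat.card C * Nat.card (normalizer (((P.mapSurjective hφ : Sylow p G') : Subgroup G') : Set G')) := by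
    intro Q' hQ'
    have hQ'H : H.map φ ≤ (Q' : Subgroup G') := (Finset.mem_filter.mp hQ').2
    obtain ⟨Q₁, hQ₁⟩ := Sylow.mapSurjective_surjective hφ p Q'
    -- a Sylow subgroup over `Q'` containing `H`
    obtain ⟨Q₀, hHQ₀, hQ₀⟩ : ∃ Q₀ : Sylow p G, H ≤ (Q₀ : Subgroup G) ∧ Q₀.mapSurjective hφ = Q' := by
      set X := (Q' : Subgroup G').comap φ with hX
      have hHX : H ≤ X := Subgroup.map_le_iff_le_comap.mp hQ'H
      have hQ₁X : (Q₁ : Subgroup G) ≤ X := Subgroup.map_le_iff_le_comap.mp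
        (le_of_eq (congrArg (fun R : Sylow p G' => (R : Subgroup G')) hQ₁))
      obtain ⟨R, hR⟩ := (hH.comap_subtype (K := X)).exists_le_sylow
      obtain ⟨x, hx⟩ := MulAction.exists_smul_eq X (Q₁.subtype hQ₁X) R
      refine ⟨(x : G) • Q₁, fun y hy => ?_, ?_⟩
      · have h1 : (⟨y, hHX hy⟩ : X) ∈ ((x • Q₁.subtype hQ₁X : Sylow p X) : Subgroup X) := hx.symm ▸ hR hy
        rw [mem_smul_sylow] at h1 ⊢
        exact h1
      · rw [mapSurjective_smul φ hφ, hQ₁, Sylow.smul_eq_iff_mem_normalizer]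
        exact Subgroup.le_normalizer x.2
    have horb : ((Finset.univ.filter fun Q : Sylow p G => H ≤ (Q : Subgroup G)).filter
        fun Q => Q.mapSurjective hφ = Q').card = (MulAction.stabilizer C Q₀).index := by
      rw [MulAction.index_stabilizer, ← Set.ncard_coe_finset]
      congr 1
      ext Q
      simp only [Finset.coe_filter, Finset.mem_filter, Finset.mem_univ, true_and, Set.mem_ofPred_eq,
        MulAction.mem_orbit_iff]
      constructor
      · rintro ⟨hHQ, hQ⟩
        obtain ⟨m, hm, rfl⟩ := exists_ker_conj φ hφ (hQ.trans hQ₀.symm)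
        refine ⟨⟨m, hm, fun h hh => ?_⟩, rfl⟩
        exact (hcent Q₀ m hm h (hHQ₀ hh) (mem_smul_sylow.mp (hHQ hh))).symm
      · rintro ⟨⟨c, hcK, hcC⟩, rfl⟩
        refine ⟨fun h hh => ?_, ?_⟩
        · show h ∈ ((c • Q₀ : Sylow p G) : Subgroup G)
          rw [mem_smul_sylow, mul_assoc, Subgroup.mem_centralizer_iff.mp hcC h hh, inv_mul_cancel_left]
          exact hHQ₀ hh
        · show (c • Q₀).mapSurjective hφ = Q'
          rw [mapSurjective_smul φ hφ, MonoidHom.mem_ker.mp hcK, one_smul, hQ₀]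
    set N₀ := normalizer ((Q₀ : Subgroup G) : Set G) with hN₀
    set ψ := φ.comp N₀.subtype with hψ
    have hrange : ψ.range = normalizer ((Q' : Subgroup G') : Set G') := by
      apply le_antisymm
      · rintro _ ⟨y, rfl⟩
        have := Sylow.smul_eq_iff_mem_normalizer.mpr y.2
        have h2 := congrArg (fun R : Sylow p G => R.mapSurjective hφ) this
        simp only [mapSurjective_smul φ hφ, hQ₀] at h2
        exact Sylow.smul_eq_iff_mem_normalizer.mp h2
      · intro w hw
        obtain ⟨y, rfl⟩ := hφ w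
        have h2 : (y • Q₀).mapSurjective hφ = Q₀.mapSurjective hφ := by
          rw [mapSurjective_smul φ hφ, hQ₀]
          exact Sylow.smul_eq_iff_mem_normalizer.mpr hw
        obtain ⟨m, hm, hm2⟩ := exists_ker_conj φ hφ h2
        have hmem : m⁻¹ * y ∈ N₀ := Sylow.smul_eq_iff_mem_normalizer.mp (by
          rw [mul_smul, hm2, inv_smul_smul])
        refine ⟨⟨_, hmem⟩, ?_⟩
        show φ (m⁻¹ * y) = φ y
        rw [map_mul, map_inv, MonoidHom.mem_ker.mp hm, inv_one, one_mul]
    have hst : Nat.card (MulAction.stabilizer C Q₀) = Nat.card ψ.ker := by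
      refine Nat.card_congr
        { toFun := fun c => ⟨⟨((c : C) : G), ?_⟩, ?_⟩
          invFun := fun y => ⟨⟨((y : N₀) : G), ?_, ?_⟩, ?_⟩
          left_inv := fun c => rfl
          right_inv := fun y => rfl }
      · exact Sylow.smul_eq_iff_mem_normalizer.mp c.2
      · exact MonoidHom.mem_ker.mpr (MonoidHom.mem_ker.mp c.1.2.1)
      · exact MonoidHom.mem_ker.mpr (MonoidHom.mem_ker.mp y.2)
      · intro h hh
        refine (hcent Q₀ _ (MonoidHom.mem_ker.mp y.2) h (hHQ₀ hh) ?_).symm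
        exact (Subgroup.mem_normalizer_iff''.mp y.1.2 h).mp (hHQ₀ hh)
      · exact Sylow.smul_eq_iff_mem_normalizer.mpr y.1.2
    have hmul := (MulAction.stabilizer C Q₀).card_mul_index
    rw [hst] at hmul
    have hN0 := ψ.ker.card_mul_index
    rw [Subgroup.index_ker, hrange, card_normalizer_eq (P.mapSurjective hφ) Q'] at hN0
    have hN0' : Nat.card N₀ = Nat.card (normalizer ((P : Subgroup G) : Set G)) := card_normalizer_eq P Q₀
    rw [hN0'] at hN0
    rw [horb, ← hmul, ← hN0]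
    ring
  have hmaps : ∀ Q ∈ (Finset.univ.filter fun Q : Sylow p G => H ≤ (Q : Subgroup G)),
      Q.mapSurjective hφ ∈ (Finset.univ.filter fun Q' : Sylow p G' => H.map φ ≤ (Q' : Subgroup G')) := by
    intro Q hQ
    refine Finset.mem_filter.mpr ⟨Finset.mem_univ _, ?_⟩
    exact Subgroup.map_mono (Finset.mem_filter.mp hQ).2
  simp only [Nat.card_eq_fintype_card (α := {Q : Sylow p G // H ≤ (Q : Subgroup G)}),
    Nat.card_eq_fintype_card (α := {Q : Sylow p G' // H.map φ ≤ (Q : Subgroup G')}), Fintype.card_subtype]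
  rw [Finset.card_eq_sum_card_fiberwise hmaps, Finset.sum_mul, Finset.sum_congr rfl hfib,
    Finset.sum_const, smul_eq_mul]
  ring

end Cfsg.Agent.Lib.Subnormalizer
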